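import Groth.Agent.VarDim.Catenary
import Mathlib.RingTheory.Ideal.KrullsHeightTheorem
import Mathlib.RingTheory.Jacobson.Ring

/-!
In an affine domain, a closed point lies on a curve meeting a given nonempty basic open set.
-/

set_option autoImplicit false
set_option linter.style.haveILetI false
set_option linter.unusedSectionVars false

universe u

namespace Groth.Agent.SquareNC

variable {A : Type u} [CommRing A]

theorem eq_of_le_of_mem_minimalPrimes [IsNoetherianRing A] {q r P : Ideal A} [q.IsPrime] [r.IsPrime]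
    {f : A} (hP : P ∈ (q ⊔ Ideal.span {f}).minimalPrimes) (hqr : q < r) (hrP : r ≤ P) : r = P := by
  by_contra hne
  haveI := hP.isPrime
  have h1 := Ideal.map_height_le_one_of_mem_minimalPrimes hP
  let π := Ideal.Quotient.mk q
  have hker : RingHom.ker π = q := Ideal.mk_ker
  haveI : (P.map π).IsPrime := Ideal.map_isPrime_of_surjective Ideal.Quotient.mk_surjective
    (hker.trans_le (hqr.le.trans hrP))
  haveI : (r.map π).IsPrime := Ideal.map_isPrime_of_surjective Ideal.Quotient.mk_surjective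
    (hker.trans_le hqr.le)
  have hcm : ∀ {I : Ideal A}, q ≤ I → (I.map π).comap π = I := fun hI => by
    rw [Ideal.comap_map_of_surjective π Ideal.Quotient.mk_surjective, ← RingHom.ker_eq_comap_bot, hker,
      sup_eq_left.2 hI]
  have hlt : r.map π < P.map π := lt_of_le_of_ne (Ideal.map_mono hrP) fun h => hne (by
    rw [← hcm hqr.le, h, hcm (hqr.le.trans hrP)])
  have h0 := Ideal.height_le_iff.1 h1 (r.map π) inferInstance hlt
  rw [Nat.cast_one, ENat.lt_one_iff_eq_zero, Ideal.height_eq_zero_iff_eq_bot] at h0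
  exact hqr.not_ge (by rw [← hcm hqr.le, h0, ← RingHom.ker_eq_comap_bot, hker])

theorem exists_curve_prime (k : Type u) [Field k] [IsDomain A] [Algebra k A] [Algebra.FiniteType k A]
    (m : Ideal A) [hm : m.IsMaximal] (g : A) (hg : g ≠ 0) (hgm : g ∈ m) :
    ∃ q : Ideal A, q.IsPrime ∧ q ≤ m ∧ g ∉ q ∧ ringKrullDim (A ⧸ q) = 1 := by
  haveI : IsNoetherianRing A := Algebra.FiniteType.isNoetherianRing k A
  let S : Set (Ideal A) := {q | q.IsPrime ∧ q ≤ m ∧ g ∉ q}
  have hS : S.Nonempty := ⟨⊥, Ideal.isPrime_bot, bot_le, by simpa using hg⟩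
  obtain ⟨q, ⟨hqp, hqm, hgq⟩, hmax⟩ := set_has_maximal_iff_noetherian.2 inferInstance S hS
  haveI := hqp
  refine ⟨q, hqp, hqm, hgq, ?_⟩
  let qp : PrimeSpectrum A := ⟨q, hqp⟩
  let mp : PrimeSpectrum A := ⟨m, hm.isPrime⟩
  have hlt : qp < mp := lt_of_le_of_ne hqm fun h => hgq (show g ∈ qp.asIdeal by rw [h]; exact hgm)
  have hcov : qp ⋖ mp := by
    refine ⟨hlt, fun r h1 h2 => ?_⟩
    haveI := r.isPrime
    have h1' : q < r.asIdeal := h1
    have h2' : r.asIdeal < m := h2
    have hfin := Ideal.finite_minimalPrimes_of_isNoetherianRing A (q ⊔ Ideal.span {g})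
    have hmnot : ∀ P ∈ Ideal.minimalPrimes (q ⊔ Ideal.span {g}), P ≤ m → P ≠ m := fun P hP _ hPm =>
      h2'.ne (hPm ▸ eq_of_le_of_mem_minimalPrimes hP h1' (hPm.symm ▸ h2'.le))
    obtain ⟨f, hfm, hf⟩ : ∃ f ∈ m, ∀ P ∈ insert q (Ideal.minimalPrimes (q ⊔ Ideal.span {g}) ∩ {P | P ≤ m}), f ∉ P := by
      by_contra hall
      push Not at hall
      have hsub : (m : Set A) ⊆ ⋃ P ∈ (hfin.inter_of_left {P | P ≤ m}).toFinset.cons q (by
          simp only [Set.Finite.mem_toFinset]
          exact fun h => hgq (h.1.le (le_sup_right (a := q) (Ideal.mem_span_singleton_self g)))),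
          (P : Set A) := fun x hx => by
        obtain ⟨P, hP, hxP⟩ := hall x hx
        simp only [Finset.mem_cons, Set.Finite.mem_toFinset, Set.mem_iUnion, SetLike.mem_coe, exists_prop]
        exact ⟨P, Set.mem_insert_iff.1 hP, hxP⟩
      obtain ⟨P, hP, hmP⟩ := (Ideal.subset_union_prime q q fun P hP _ _ => by
        simp only [Finset.mem_cons, Set.Finite.mem_toFinset] at hP
        rcases hP with rfl | hP
        · exact hqp
        · exact hP.1.isPrime).1 hsub
      simp only [Finset.mem_cons, Set.Finite.mem_toFinset] at hP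
      rcases hP with rfl | ⟨hP, hPm⟩
      · exact hlt.not_ge hmP
      · exact hmnot P hP hPm (le_antisymm hPm hmP)
    obtain ⟨q', hq', hq'm⟩ := Ideal.exists_minimalPrimes_le (I := q ⊔ Ideal.span {f}) (J := m)
      (sup_le hqm (Ideal.span_le.2 (Set.singleton_subset_iff.2 hfm)))
    haveI := hq'.isPrime
    have hqq' : q < q' := lt_of_le_of_ne (le_sup_left.trans hq'.le) fun h =>
      hf q (Set.mem_insert _ _) (h ▸ hq'.le (le_sup_right (a := q) (Ideal.mem_span_singleton_self f)))
    by_cases hgq' : g ∈ q'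
    · obtain ⟨P, hP, hPq'⟩ := Ideal.exists_minimalPrimes_le (I := q ⊔ Ideal.span {g}) (J := q')
        (sup_le hqq'.le (Ideal.span_le.2 (Set.singleton_subset_iff.2 hgq')))
      haveI := hP.isPrime
      have hqP : q < P := lt_of_le_of_ne (le_sup_left.trans hP.le) fun h =>
        hgq (h.symm ▸ hP.le (le_sup_right (a := q) (Ideal.mem_span_singleton_self g)))
      exact hf P (Set.mem_insert_of_mem _ ⟨hP, hPq'.trans hq'm⟩)
        ((eq_of_le_of_mem_minimalPrimes hq' hqP hPq').symm ▸
          hq'.le (le_sup_right (a := q) (Ideal.mem_span_singleton_self f)))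
    · exact hmax q' ⟨hq'.isPrime, hq'm, hgq'⟩ hqq'
  have h1 := VarDim.coheight_of_covBy k hcov
  have h0 : Order.coheight mp = 0 := Order.coheight_eq_zero.2 fun P hP => by
    exact (PrimeSpectrum.ext (hm.eq_of_le P.isPrime.ne_top hP)).ge
  rw [← VarDim.coheight_eq_ringKrullDim_quotient qp, h1, h0, zero_add]
  rfl

end Groth.Agent.SquareNC
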