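import Groth.Agent.SquareNC.Conn
import Groth.Agent.SquareNC.CurvePrime
import Groth.Agent.CurveModel.Basic
import Groth.Agent.S1585
import Groth.Agent.S9800
import Groth.Agent.CurveCohLib.RegularCurve
import Mathlib.AlgebraicGeometry.Morphisms.Smooth

/-!
A function on the rational points of a connected scheme of finite type which is constant on every
smooth curve mapping to the scheme is constant.
-/

set_option autoImplicit false
set_option linter.style.haveILetI false
set_option linter.unusedSectionVars false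
set_option backward.isDefEq.respectTransparency false
set_option backward.isDefEq.respectTransparency.types false

universe u

open CategoryTheory MonoidalCategory CartesianMonoidalCategory AlgebraicGeometry Limits

namespace Groth.Agent.SquareNC

variable {K : Type u} [Field K] [IsAlgClosed K]

/-- The spectrum of an algebra. -/
noncomputable abbrev AffS (K A : Type u) [Field K] [CommRing A] [Algebra K A] : Over (Spec (CommRingCat.of K)) :=
  Over.mk (Spec.map (CommRingCat.ofHom (algebraMap K A)))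

instance (A : Type u) [CommRing A] [Algebra K A] [Algebra.FiniteType K A] :
    LocallyOfFiniteType (AffS K A).hom := by
  show LocallyOfFiniteType (Spec.map _)
  rw [HasRingHomProperty.Spec_iff (P := @LocallyOfFiniteType), CommRingCat.hom_ofHom]
  exact RingHom.finiteType_algebraMap.2 inferInstance

/-- The closed subscheme of a prime ideal. -/
noncomputable def quotS (A : Type u) [CommRing A] [Algebra K A] (q : Ideal A) :
    AffS K (A ⧸ q) ⟶ AffS K A :=
  Over.homMk (Spec.map (CommRingCat.ofHom (Ideal.Quotient.mk q))) (by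
    show Spec.map _ ≫ Spec.map _ = Spec.map _
    rw [← Spec.map_comp]
    rfl)

theorem exists_pt_quot {A : Type u} [CommRing A] [Algebra K A] [Algebra.FiniteType K A] (q : Ideal A)
    (x : Pt (AffS K A)) (hx : q ≤ (show PrimeSpectrum A from img x).asIdeal) :
    ∃ x' : Pt (AffS K (A ⧸ q)), x' ≫ quotS A q = x := by
  have hemb := PrimeSpectrum.isClosedEmbedding_comap_of_surjective _ (Ideal.Quotient.mk q) Ideal.Quotient.mk_surjective
  have hr : (show PrimeSpectrum A from img x) ∈ Set.range (PrimeSpectrum.comap (Ideal.Quotient.mk q)) := by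
    rw [range_comap_of_surjective _ _ Ideal.Quotient.mk_surjective, Ideal.mk_ker]
    exact hx
  obtain ⟨w, hw⟩ := hr
  obtain ⟨x', hx'⟩ := exists_pt (U := AffS K (A ⧸ q)) (x := w)
    (isClosed_of_injective hemb.continuous hemb.injective (by
      rw [hw]
      exact (isClosed_img x : IsClosed ({img x} : Set (AffS K A).left))))
  exact ⟨x', pt_ext (by rw [img_comp, hx']; exact hw)⟩

variable {T : Over (Spec (CommRingCat.of K))} {α : Sort*}

theorem curveConst_comp {U U' : Over (Spec (CommRingCat.of K))} {c : Pt U → α} (hc : CurveConst c)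
    (φ : U' ⟶ U) : CurveConst fun p : Pt U' => c (p ≫ φ) := fun C hC f p q => by
  simpa only [Category.assoc] using hc C hC (f ≫ φ) p q

/-- Constancy on an affine variety. -/
theorem const_of_domain {A : Type u} [CommRing A] [IsDomain A] [Algebra K A] [Algebra.FiniteType K A]
    (c : Pt (AffS K A) → α) (hc : CurveConst c) (x y : Pt (AffS K A)) : c x = c y := by
  haveI : IsIntegral (AffS K A).left := inferInstanceAs (IsIntegral (Spec (CommRingCat.of A)))
  haveI : LocallyOfFinitePresentation (AffS K A).hom :=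
    haveI : IsLocallyNoetherian (Spec (CommRingCat.of K)) := inferInstance
    inferInstance
  have hd := (AffS K A).hom.dense_smoothLocus_of_perfectField
  obtain ⟨_, ⟨g, rfl⟩, ⟨ξ, hξg⟩, hgU⟩ :=
    PrimeSpectrum.isTopologicalBasis_basic_opens.exists_nonempty_subset hd.nonempty (AffS K A).hom.smoothLocus.2
  have hg0 : g ≠ 0 := by
    rintro rfl
    exact hξg (zero_mem _)
  let O := (AffS K A).hom.smoothLocus
  let U : Over (Spec (CommRingCat.of K)) := Over.mk (O.ι ≫ (AffS K A).hom)
  let i : U ⟶ AffS K A := Over.homMk O.ι rfl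
  haveI : Smooth U.hom := by
    haveI : LocallyOfFinitePresentation U.hom := inferInstanceAs (LocallyOfFinitePresentation (O.ι ≫ (AffS K A).hom))
    refine Scheme.Hom.smoothLocus_eq_top_iff.1 ?_
    show (O.ι ≫ (AffS K A).hom).smoothLocus = ⊤
    rw [← Scheme.Hom.preimage_smoothLocus_eq]
    exact Scheme.Opens.ι_preimage_self O
  haveI : Nonempty (O : Scheme.{u}) := ⟨⟨_, hd.nonempty.choose_spec⟩⟩
  haveI : Nonempty U.left := ‹Nonempty (O : Scheme.{u})›
  haveI : IsIntegral U.left := isIntegral_of_isOpenImmersion O.ι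
  have hsm : ∀ p q : Pt (AffS K A), img p ∈ O → img q ∈ O → c p = c q := by
    intro p q hp hq
    obtain ⟨p', hp'⟩ := exists_pt (U := U) (x := ⟨img p, hp⟩)
      (isClosed_of_injective O.ι.continuous O.ι.isOpenEmbedding.injective (isClosed_img p))
    obtain ⟨q', hq'⟩ := exists_pt (U := U) (x := ⟨img q, hq⟩)
      (isClosed_of_injective O.ι.continuous O.ι.isOpenEmbedding.injective (isClosed_img q))
    have h := const_of_curves _ (curveConst_comp hc i) p' q'
    rwa [show p' ≫ i = p from pt_ext (by rw [img_comp, hp']; rfl),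
      show q' ≫ i = q from pt_ext (by rw [img_comp, hq']; rfl)] at h
  suffices h : ∀ p : Pt (AffS K A), ∃ p', img p' ∈ O ∧ c p = c p' by
    obtain ⟨x', hx', hxc⟩ := h x
    obtain ⟨y', hy', hyc⟩ := h y
    rw [hxc, hyc]
    exact hsm _ _ hx' hy'
  intro p
  let m : Ideal A := (show PrimeSpectrum A from img p).asIdeal
  haveI : m.IsMaximal := (PrimeSpectrum.isClosed_singleton_iff_isMaximal _).1
    (isClosed_img p : IsClosed ({img p} : Set (AffS K A).left))
  by_cases hgm : g ∈ m
  swap
  · exact ⟨p, hgU hgm, rfl⟩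
  obtain ⟨q, hq, hqm, hgq, hdim⟩ := exists_curve_prime K m g hg0 hgm
  haveI := hq
  let B := A ⧸ q
  let Q := AffS K B
  haveI : IsIntegral Q.left := inferInstanceAs (IsIntegral (Spec (CommRingCat.of B)))
  letI : Q.left.Over (Spec (CommRingCat.of K)) := ⟨Q.hom⟩
  haveI : LocallyOfFiniteType (Q.left ↘ Spec (CommRingCat.of K)) := inferInstanceAs (LocallyOfFiniteType Q.hom)
  haveI : IsLocallyNoetherian Q.left := LocallyOfFiniteType.isLocallyNoetherian Q.hom
  obtain ⟨hfin, hdom, ⟨V, hVne, hViso⟩, hint, hN⟩ := S1585.result K Q.left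
  haveI := hfin
  haveI := hdom
  haveI := hint
  let ν := Curv2.normalizationι Q.left
  let N : Over (Spec (CommRingCat.of K)) := Over.mk (ν ≫ Q.hom)
  let ν' : N ⟶ Q := Over.homMk ν rfl
  haveI : IsIntegral N.left := hint
  haveI : LocallyOfFiniteType N.hom := inferInstanceAs (LocallyOfFiniteType (ν ≫ Q.hom))
  haveI : IsLocallyNoetherian N.left := LocallyOfFiniteType.isLocallyNoetherian N.hom
  haveI : IsAffine Q.left := inferInstanceAs (IsAffine (Spec (CommRingCat.of B)))
  haveI : IsAffine N.left := isAffine_of_isAffineHom ν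
  have hNdim : topologicalKrullDim ↥N.left = 1 := by
    haveI := hViso
    haveI : Nonempty (V : Scheme.{u}) := ⟨⟨_, hVne.choose_spec⟩⟩
    haveI : IsIntegral (V : Scheme.{u}) := isIntegral_of_isOpenImmersion V.ι
    haveI : IsDominant V.ι := ⟨(V.2.dense hVne).mono (by rw [Scheme.Opens.range_ι]; rfl)⟩
    let W := ν ⁻¹ᵁ V
    let jW : (V : Scheme.{u}) ⟶ N.left := inv (ν ∣_ V) ≫ W.ι
    have hWne : (W : Set (Curv2.normalization Q.left)).Nonempty := by
      obtain ⟨v, hv⟩ := hVne
      refine ⟨jW ⟨v, hv⟩, ?_⟩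
      exact ((inv (ν ∣_ V)) ⟨v, hv⟩).2
    haveI : IsDominant W.ι := ⟨(W.2.dense hWne).mono (by rw [Scheme.Opens.range_ι]; rfl)⟩
    rw [CurveModel.topologicalKrullDim_eq N.hom jW, ← CurveModel.topologicalKrullDim_eq Q.hom V.ι]
    show topologicalKrullDim (PrimeSpectrum B) = 1
    rw [PrimeSpectrum.topologicalKrullDim_eq_ringKrullDim]
    exact hdim
  letI : N.left.Over (Spec (CommRingCat.of K)) := ⟨N.hom⟩
  haveI : LocallyOfFiniteType (N.left ↘ Spec (CommRingCat.of K)) := inferInstanceAs (LocallyOfFiniteType N.hom)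
  have hsmooth : Smooth N.hom := CurveCohLib.RegularCurve.smooth_of_regular K
    fun z _ => S9800.result N.left hN hNdim.le z
  have hcurve : IsCurve N := ⟨hsmooth, inferInstance, hint, hNdim⟩
  have hsurj : ∀ z : Q.left, z ∈ Set.range ν := by
    intro z
    rw [← (ν.isClosedMap.isClosed_range).closure_eq, ν.denseRange.closure_range]
    trivial
  have hliftN : ∀ z : Pt Q, ∃ z' : Pt N, z' ≫ ν' = z := by
    intro z
    obtain ⟨w, hw⟩ := hsurj (img z)
    obtain ⟨z', hz'⟩ := exists_pt_mem (U := N) (Z := ν ⁻¹' {img z}) ⟨w, hw⟩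
      ((isClosed_img z).preimage ν.continuous).isLocallyClosed
    exact ⟨z', pt_ext ((img_comp z' ν').trans hz')⟩
  obtain ⟨p₁, hp₁⟩ := exists_pt_quot q p hqm
  obtain ⟨p₂, hp₂⟩ := exists_pt_mem_open (U := Q) (show Q.left.Opens from PrimeSpectrum.basicOpen (Ideal.Quotient.mk q g))
    ⟨show Q.left from ⟨⊥, Ideal.isPrime_bot⟩, fun h => hgq (Ideal.Quotient.eq_zero_iff_mem.1 h)⟩
  obtain ⟨n₁, hn₁⟩ := hliftN p₁
  obtain ⟨n₂, hn₂⟩ := hliftN p₂
  refine ⟨p₂ ≫ quotS A q, hgU hp₂, ?_⟩
  have h := hc N hcurve (ν' ≫ quotS A q) n₁ n₂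
  rwa [← Category.assoc, ← Category.assoc, hn₁, hn₂, hp₁] at h

theorem locConst_lft [LocallyOfFiniteType T.hom] (c : Pt T → α) (hc : CurveConst c) (x : Pt T) :
    ∃ O : T.left.Opens, img x ∈ O ∧ ∀ y : Pt T, img y ∈ O → c (y ≫ 𝟙 T) = c (x ≫ 𝟙 T) := by
  obtain ⟨_, ⟨(V : T.left.Opens), hV, rfl⟩, hxV, -⟩ :=
    T.left.isBasis_affineOpens.exists_subset_of_mem_open (Set.mem_univ (img x)) isOpen_univ
  let A := Γ(T.left, V)
  let φ : CommRingCat.of K ⟶ A := (Scheme.ΓSpecIso (CommRingCat.of K)).inv ≫ T.hom.appLE ⊤ V le_top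
  letI : Algebra K A := φ.hom.toAlgebra
  haveI : Algebra.FiniteType K A := by
    rw [← RingHom.finiteType_algebraMap]
    have h := LocallyOfFiniteType.finiteType_appLE T.hom (isAffineOpen_top _) hV (le_top : V ≤ _)
    exact RingHom.finiteType_respectsIso.2 _ (Scheme.ΓSpecIso (CommRingCat.of K)).symm.commRingCatIsoToRingEquiv h
  let j : AffS K A ⟶ T := Over.homMk hV.fromSpec (by
    show hV.fromSpec ≫ T.hom = Spec.map φ
    rw [Spec.map_comp, ← Scheme.isoSpec_Spec_inv, ← IsAffineOpen.fromSpec_top]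
    exact ((isAffineOpen_top (Spec (CommRingCat.of K))).SpecMap_appLE_fromSpec T.hom hV le_top).symm)
  haveI : IsNoetherianRing A := Algebra.FiniteType.isNoetherianRing K A
  have hlift : ∀ z : Pt T, img z ∈ V → ∃ z' : Pt (AffS K A), z' ≫ j = z := by
    intro z hz
    obtain ⟨w, hw⟩ : img z ∈ Set.range hV.fromSpec := by rw [hV.range_fromSpec]; exact hz
    obtain ⟨z', hz'⟩ := exists_pt (U := AffS K A) (x := w)
      (isClosed_of_injective hV.fromSpec.continuous hV.fromSpec.isOpenEmbedding.injective (by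
        rw [hw]; exact isClosed_img z))
    exact ⟨z', pt_ext (by rw [img_comp, hz']; exact hw)⟩
  obtain ⟨x', hx'⟩ := hlift x hxV
  let m : Ideal A := (show PrimeSpectrum A from img x').asIdeal
  let Bad : Set (AffS K A).left :=
    ⋃ P ∈ {P : Ideal A | P ∈ minimalPrimes A ∧ ¬ P ≤ m}, PrimeSpectrum.zeroLocus (P : Set A)
  have hBad : IsClosed Bad := ((minimalPrimes.finite_of_isNoetherianRing A).subset fun P hP => hP.1).isClosed_biUnion
    fun P _ => PrimeSpectrum.isClosed_zeroLocus _
  let O : (AffS K A).left.Opens := ⟨Badᶜ, hBad.isOpen_compl⟩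
  have hxO : img x' ∈ O := fun h => by
    obtain ⟨P, hP, hxP⟩ := Set.mem_iUnion₂.1 h
    exact hP.2 hxP
  haveI : IsOpenImmersion j.left := inferInstanceAs (IsOpenImmersion hV.fromSpec)
  refine ⟨j.left ''ᵁ O, ⟨img x', hxO, (img_comp x' j).symm.trans (congrArg img hx')⟩, ?_⟩
  rintro y ⟨w, hw, hwy⟩
  obtain ⟨y', hy'⟩ := exists_pt (U := AffS K A) (x := w)
    (isClosed_of_injective j.left.continuous j.left.isOpenEmbedding.injective (by
      rw [show (j.left w : T.left) = img y from hwy]; exact isClosed_img y))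
  have hy : y' ≫ j = y := pt_ext (by rw [img_comp, hy']; exact hwy)
  obtain ⟨P, hP, hPy⟩ := Ideal.exists_minimalPrimes_le (I := (⊥ : Ideal A))
    (J := (show PrimeSpectrum A from w).asIdeal) bot_le
  have hPx : P ≤ m := by
    by_contra hPm
    exact hw (Set.mem_iUnion₂.2 ⟨P, ⟨hP, hPm⟩, hPy⟩)
  haveI := hP.isPrime
  obtain ⟨x₁, hx₁⟩ := exists_pt_quot P x' hPx
  obtain ⟨y₁, hy₁⟩ := exists_pt_quot P y' (by rw [hy']; exact hPy)
  have h := const_of_domain _ (curveConst_comp hc (quotS A P ≫ j)) y₁ x₁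
  simp only [← Category.assoc, hx₁, hy₁, hy, hx'] at h
  simpa using h

/-- A function constant on curves is constant on the points of a connected scheme. -/
theorem const_of_connected [LocallyOfFiniteType T.hom] [PreconnectedSpace T.left] (c : Pt T → α)
    (hc : CurveConst c) (x y : Pt T) : c x = c y := by
  have h := eq_of_preconnected c (𝟙 T) (locConst_lft c hc) (T := Set.univ) isPreconnected_univ
    (x := y) (y := x) trivial trivial
  simpa using h

end Groth.Agent.SquareNC
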