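import Groth.Agent.SquareNC.Pts
import Groth.Agent.H23.CubeAb
import Groth.Agent.PicClLib.Basic

/-!
The relation between the slices of an invertible class on a product of two proper varieties and a third one.
-/

set_option autoImplicit false
set_option linter.style.haveILetI false
set_option linter.unusedSectionVars false
set_option backward.isDefEq.respectTransparency false
set_option backward.isDefEq.respectTransparency.types false

universe u

open CategoryTheory MonoidalCategory CartesianMonoidalCategory AlgebraicGeometry Limits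
open scoped Groth.Agent.H23.PicMul

namespace Groth.Agent.SquareNC

open H23

variable {K : Type u} [Field K]

/-- Pullback of invertible classes. -/
noncomputable def pullU {S T : Over (Spec (CommRingCat.of K))} (f : S ⟶ T) :
    (PicF.Cl T.left)ˣ →* (PicF.Cl S.left)ˣ :=
  Units.map (PicMul.pullHom f.left)

@[simp]
theorem pullU_id {T : Over (Spec (CommRingCat.of K))} (u : (PicF.Cl T.left)ˣ) : pullU (𝟙 T) u = u :=
  Units.ext (PicClLib.pullCl_id u.1)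

theorem pullU_comp {S T R : Over (Spec (CommRingCat.of K))} (g : S ⟶ T) (f : T ⟶ R) (u : (PicF.Cl R.left)ˣ) :
    pullU (g ≫ f) u = pullU g (pullU f u) :=
  Units.ext (PicClLib.pullCl_comp g.left f.left u.1).symm

/-- The invertibility of a unit. -/
def Inv {X : Scheme.{u}} (u : (PicF.Cl X)ˣ) : Prop := PicF.IsInvertibleCl u.1

theorem Inv.mul {X : Scheme.{u}} {u v : (PicF.Cl X)ˣ} (hu : Inv u) (hv : Inv v) : Inv (u * v) :=
  PicMul.isInvertibleCl_mul hu hv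

theorem Inv.inv {X : Scheme.{u}} {u : (PicF.Cl X)ˣ} (hu : Inv u) : Inv u⁻¹ := by
  obtain ⟨L, hL, hLi⟩ := hu
  obtain ⟨D, hD, e⟩ := PicInv.exists_inverse hLi
  refine ⟨D, ?_, hD⟩
  symm
  refine Units.inv_eq_of_mul_eq_one_right ?_
  rw [← hL]
  exact PicMul.cl_eq_iff.2 e

theorem Inv.pull {S T : Over (Spec (CommRingCat.of K))} {u : (PicF.Cl T.left)ˣ} (hu : Inv u) (f : S ⟶ T) :
    Inv (pullU f u) :=
  PicClLib.isInvertibleCl_pullCl f.left hu

theorem pullU_const {S T : Over (Spec (CommRingCat.of K))} {u : (PicF.Cl T.left)ˣ} (hu : Inv u)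
    (a : 𝟙_ (Over (Spec (CommRingCat.of K))) ⟶ T) : pullU (toUnit S ≫ a) u = 1 :=
  Units.ext (CubeAb.F_const hu a)

variable {X Y Z : Over (Spec (CommRingCat.of K))}

/-- The slice over a pair of points. -/
noncomputable def pt3 (a : 𝟙_ (Over (Spec (CommRingCat.of K))) ⟶ X)
    (b : 𝟙_ (Over (Spec (CommRingCat.of K))) ⟶ Y) : Z ⟶ X ⊗ Y ⊗ Z :=
  lift (toUnit Z ≫ a) (lift (toUnit Z ≫ b) (𝟙 Z))

/-- The slice of a class over a pair of points. -/
noncomputable def E (u : (PicF.Cl (X ⊗ Y ⊗ Z).left)ˣ) (a : 𝟙_ (Over (Spec (CommRingCat.of K))) ⟶ X)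
    (b : 𝟙_ (Over (Spec (CommRingCat.of K))) ⟶ Y) : (PicF.Cl Z.left)ˣ :=
  pullU (pt3 a b) u

theorem pt3_map {X' Y' : Over (Spec (CommRingCat.of K))} (f : X' ⟶ X) (g : Y' ⟶ Y)
    (a : 𝟙_ (Over (Spec (CommRingCat.of K))) ⟶ X') (b : 𝟙_ (Over (Spec (CommRingCat.of K))) ⟶ Y') :
    pt3 (Z := Z) a b ≫ (f ⊗ₘ (g ⊗ₘ 𝟙 Z)) = pt3 (a ≫ f) (b ≫ g) := by
  simp [pt3]

theorem E_map {X' Y' : Over (Spec (CommRingCat.of K))} (f : X' ⟶ X) (g : Y' ⟶ Y)
    (u : (PicF.Cl (X ⊗ Y ⊗ Z).left)ˣ)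
    (a : 𝟙_ (Over (Spec (CommRingCat.of K))) ⟶ X') (b : 𝟙_ (Over (Spec (CommRingCat.of K))) ⟶ Y') :
    E (pullU (f ⊗ₘ (g ⊗ₘ 𝟙 Z)) u) a b = E u (a ≫ f) (b ≫ g) := by
  unfold E
  rw [← pullU_comp, pt3_map]

theorem relation_of_proper [IsProper X.hom] [IsProper Y.hom] [GeometricallyIntegral X.hom]
    [GeometricallyIntegral Y.hom] [LocallyOfFiniteType Z.hom] [GeometricallyIntegral Z.hom]
    {u : (PicF.Cl (X ⊗ Y ⊗ Z).left)ˣ} (hu : Inv u)
    (a₀ a : 𝟙_ (Over (Spec (CommRingCat.of K))) ⟶ X) (b₀ b : 𝟙_ (Over (Spec (CommRingCat.of K))) ⟶ Y)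
    (z₀ : 𝟙_ (Over (Spec (CommRingCat.of K))) ⟶ Z) :
    E u a₀ b₀ * E u a b = E u a₀ b * E u a b₀ := by
  haveI : GeometricallyConnected Y.hom := CubeAb.geometricallyConnected_of_integral Y.hom
  let G : ∀ {T : Over (Spec (CommRingCat.of K))}, (T ⟶ X) → (T ⟶ Y) → (T ⟶ Z) → (PicF.Cl T.left)ˣ :=
    fun s t w => pullU (lift s (lift t w)) u
  have hG : ∀ {T T' : Over (Spec (CommRingCat.of K))} (σ : T' ⟶ T) (s : T ⟶ X) (t : T ⟶ Y) (w : T ⟶ Z),
      pullU σ (G s t w) = G (σ ≫ s) (σ ≫ t) (σ ≫ w) := by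
    intro T T' σ s t w
    simp only [G, ← pullU_comp, comp_lift]
  let P := X ⊗ Y ⊗ Z
  let p : P ⟶ X := fst _ _
  let q : P ⟶ Y := snd _ _ ≫ fst _ _
  let r : P ⟶ Z := snd _ _ ≫ snd _ _
  let A : P ⟶ X := toUnit P ≫ a₀
  let B : P ⟶ Y := toUnit P ≫ b₀
  let C : P ⟶ Z := toUnit P ≫ z₀
  let M := G p q r * G A B r * G A q C * G p B C * (G A q r * G p B r * G p q C * G A B C)⁻¹
  have hinv : ∀ s t w, Inv (G (T := P) s t w) := fun s t w => hu.pull _
  have hM : Inv M := (((hinv _ _ _).mul (hinv _ _ _)).mul (hinv _ _ _)).mul (hinv _ _ _) |>.mul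
    (((((hinv _ _ _).mul (hinv _ _ _)).mul (hinv _ _ _)).mul (hinv _ _ _)).inv)
  have hslice : ∀ {T : Over (Spec (CommRingCat.of K))} (σ : T ⟶ P),
      (σ ≫ p = σ ≫ A ∨ σ ≫ q = σ ≫ B ∨ σ ≫ r = σ ≫ C) → pullU σ M = 1 := by
    intro T σ h
    rcases h with h | h | h <;>
      · simp only [M, map_mul, map_inv, hG, h]
        rw [mul_inv_eq_one]
        all_goals ac_rfl
  obtain ⟨L, hLcl, hL⟩ := hM
  have htriv : ∀ {T : Over (Spec (CommRingCat.of K))} (σ : T ⟶ P), pullU σ M = 1 →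
      TrivBasic.Triv ((Scheme.Modules.pullback σ.left).obj L) := by
    intro T σ h
    rw [← CubeAb.cl_eq_one_iff]
    show PicMul.pullHom σ.left (PicF.cl L) = 1
    rw [hLcl]
    exact congrArg Units.val h
  have hT : TrivBasic.Triv L := CubeField.cube X Y Z a₀ b₀ z₀ L hL
    (htriv _ (hslice _ (Or.inl (by simp [p, A, P, comp_toUnit_assoc]))))
    (htriv _ (hslice _ (Or.inr (Or.inl (by simp [q, B, P, comp_toUnit_assoc])))))
    (htriv _ (hslice _ (Or.inr (Or.inr (by simp [r, C, P, comp_toUnit_assoc])))))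
  have hM1 : M = 1 := Units.ext (by
    rw [← hLcl, Units.val_one]
    exact (CubeAb.cl_eq_one_iff L).2 hT)
  have hconst : ∀ (s : 𝟙_ (Over (Spec (CommRingCat.of K))) ⟶ X) (t : 𝟙_ (Over (Spec (CommRingCat.of K))) ⟶ Y),
      G (toUnit Z ≫ s) (toUnit Z ≫ t) (toUnit Z ≫ z₀) = 1 := by
    intro s t
    show pullU (lift (toUnit Z ≫ s) (lift (toUnit Z ≫ t) (toUnit Z ≫ z₀))) u = 1
    rw [← comp_lift, ← comp_lift, pullU_const hu]
  have h := congrArg (pullU (pt3 a b)) hM1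
  simp only [M, map_mul, map_inv, map_one, hG] at h
  simp [p, q, r, A, B, C, P, pt3, comp_toUnit_assoc, hconst] at h
  rw [← mul_inv_rev, mul_inv_eq_one] at h
  change G (toUnit Z ≫ a₀) (toUnit Z ≫ b₀) (𝟙 Z) * G (toUnit Z ≫ a) (toUnit Z ≫ b) (𝟙 Z) =
    G (toUnit Z ≫ a₀) (toUnit Z ≫ b) (𝟙 Z) * G (toUnit Z ≫ a) (toUnit Z ≫ b₀) (𝟙 Z)
  rw [mul_comm]
  exact h

end Groth.Agent.SquareNC
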