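import Groth.Agent.SquareNC.Conn
import Groth.Agent.SquareNC.Proper
import Groth.Agent.CurveModel.Basic
import Groth.Agent.Ref1X.Big
import Groth.Agent.H23.EquidimFibres
import Groth.Agent.S0234

/-!
The four-point relation on a product of three smooth varieties.
-/

set_option autoImplicit false
set_option linter.style.haveILetI false
set_option linter.unusedSectionVars false
set_option backward.isDefEq.respectTransparency false
set_option backward.isDefEq.respectTransparency.types false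

universe u

open CategoryTheory MonoidalCategory CartesianMonoidalCategory AlgebraicGeometry Limits
open scoped Groth.Agent.H23.PicMul

namespace Groth.Agent.SquareNC

open H23

variable {K : Type u} [Field K] [IsAlgClosed K]

theorem ufd_stalk {X : Scheme.{u}} (f : X ⟶ Spec (CommRingCat.of K)) [Smooth f] (x : X) :
    UniqueFactorizationMonoid (X.presheaf.stalk x) := by
  haveI := GrpSchLib.isRegularLocalRing_stalk_of_smooth f x
  haveI := (RegUFD.ufd (X.presheaf.stalk x)).1
  exact (RegUFD.ufd (X.presheaf.stalk x)).2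

theorem smooth_tensor (X Y : Over (Spec (CommRingCat.of K))) [Smooth X.hom] [Smooth Y.hom] :
    Smooth (X ⊗ Y).hom := by
  haveI : Smooth (fst X Y).left := inferInstanceAs (Smooth (pullback.fst X.hom Y.hom))
  rw [← Over.w (fst X Y)]
  infer_instance

/-- An invertible class on an open subscheme of a smooth scheme extends. -/
theorem exists_extend {P Q : Over (Spec (CommRingCat.of K))} (j : P ⟶ Q) [IsOpenImmersion j.left] [Smooth Q.hom]
    {u : (PicF.Cl P.left)ˣ} (hu : Inv u) :
    ∃ v : (PicF.Cl Q.left)ˣ, Inv v ∧ pullU j v = u := by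
  haveI : IsLocallyNoetherian Q.left := LocallyOfFiniteType.isLocallyNoetherian Q.hom
  obtain ⟨L, hLcl, hL⟩ := hu
  let U := j.left.opensRange
  let e := j.left.isoOpensRange
  obtain ⟨M, hM, ⟨φ⟩⟩ := S0234.result Q.left U ((Scheme.Modules.pullback e.inv).obj L)
    (PicClLib.isInvertible_pullback e.inv hL) fun x _ => ufd_stalk Q.hom x
  refine ⟨(PicMul.isUnit_cl hM).unit, ⟨M, rfl, hM⟩, Units.ext ?_⟩
  show PicF.pullCl j.left (PicF.cl M) = _
  rw [← hLcl]
  have h1 : PicF.pullCl U.ι (PicF.cl M) = PicF.pullCl e.inv (PicF.cl L) :=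
    PicMul.cl_eq_iff.2 ⟨((Scheme.Modules.restrictFunctorIsoPullback U.ι).app M).symm ≪≫ φ⟩
  rw [← j.left.isoOpensRange_hom_ι, ← PicClLib.pullCl_comp, h1, PicClLib.pullCl_comp, Iso.hom_inv_id,
    PicClLib.pullCl_id]

/-- The completion of a curve. -/
theorem exists_completion {C : Over (Spec (CommRingCat.of K))} (hC : IsCurve C) :
    ∃ (C' : Over (Spec (CommRingCat.of K))) (j : C ⟶ C'), IsOpenImmersion j.left ∧ Smooth C'.hom ∧
      IsProper C'.hom ∧ GeometricallyIntegral C'.hom := by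
  haveI := hC.smooth
  haveI := hC.affine
  haveI := hC.integral
  letI : C.left.Over (Spec (CommRingCat.of K)) := ⟨C.hom⟩
  haveI : IsSeparated (C.left ↘ Spec (CommRingCat.of K)) := inferInstanceAs (IsSeparated C.hom)
  haveI : LocallyOfFiniteType (C.left ↘ Spec (CommRingCat.of K)) := inferInstanceAs (LocallyOfFiniteType C.hom)
  haveI : QuasiCompact (C.left ↘ Spec (CommRingCat.of K)) := inferInstanceAs (QuasiCompact C.hom)
  have hnor : Pi1.IsNormalScheme C.left :=
    Ref1X.isNormalScheme_of_regular fun x => GrpSchLib.isRegularLocalRing_stalk_of_smooth C.hom x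
  obtain ⟨Y, hY, j, hj, hjc, hint, hsm, -, n, i, hi, hic⟩ := CurveModel.exists_model K C.left hnor hC.dim
  letI := hY
  haveI := hint
  haveI := hi
  haveI : IsProper (CohB1.ProjSpace.toSpec n K) := PnCoh.Chow.isProper_toSpec n K
  let C' : Over (Spec (CommRingCat.of K)) := Over.mk (Y ↘ Spec (CommRingCat.of K))
  haveI : IsIntegral C'.left := hint
  refine ⟨C', Over.homMk j hjc, hj, hsm, ?_, EquidimFibres.geometricallyIntegral_of_isAlgClosed⟩
  show IsProper (Y ↘ Spec (CommRingCat.of K))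
  rw [← hic]
  infer_instance

variable {W : Over (Spec (CommRingCat.of K))} [Smooth W.hom] [GeometricallyIntegral W.hom]

theorem relation_curves {C D : Over (Spec (CommRingCat.of K))} (hC : IsCurve C) (hD : IsCurve D)
    {u : (PicF.Cl (C ⊗ D ⊗ W).left)ˣ} (hu : Inv u) (a₀ a : Pt C) (b₀ b : Pt D) :
    E u a₀ b₀ * E u a b = E u a₀ b * E u a b₀ := by
  obtain ⟨C', j, hj, _, _, _⟩ := exists_completion hC
  obtain ⟨D', l, hl, _, _, _⟩ := exists_completion hD
  haveI : IsIntegral W.left := GeometricallyIntegral.isIntegral_of_subsingleton W.hom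
  haveI : IsOpenImmersion (j ⊗ₘ (l ⊗ₘ 𝟙 W)).left := by
    haveI : IsOpenImmersion (l ⊗ₘ 𝟙 W).left := by
      rw [Over.tensorHom_left]; infer_instance
    rw [Over.tensorHom_left]; infer_instance
  haveI := smooth_tensor D' W
  haveI := smooth_tensor C' (D' ⊗ W)
  obtain ⟨v, hv, rfl⟩ := exists_extend (j ⊗ₘ (l ⊗ₘ 𝟙 W)) hu
  obtain ⟨z₀, -⟩ := exists_pt_of_nonempty (U := W)
  simp only [E_map]
  exact relation_of_proper hv _ _ _ _ z₀

theorem relation_curve_left {C V : Over (Spec (CommRingCat.of K))} (hC : IsCurve C) [Smooth V.hom]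
    [PreconnectedSpace V.left] {u : (PicF.Cl (C ⊗ V ⊗ W).left)ˣ} (hu : Inv u) (a₀ a : Pt C) (b₀ b : Pt V) :
    E u a₀ b₀ * E u a b = E u a₀ b * E u a b₀ := by
  have hc : CurveConst fun t : Pt V => E u a₀ t / E u a t := by
    intro D hD f p q
    have h := relation_curves hC hD (hu.pull (𝟙 C ⊗ₘ (f ⊗ₘ 𝟙 W))) a₀ a p q
    simp only [E_map, Category.comp_id] at h
    show E u a₀ (p ≫ f) / E u a (p ≫ f) = E u a₀ (q ≫ f) / E u a (q ≫ f)
    rw [div_eq_div_iff_mul_eq_mul]
    exact h
  have h := const_of_curves _ hc b₀ b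
  rwa [div_eq_div_iff_mul_eq_mul] at h

/-- The four-point relation. -/
theorem relation {U V : Over (Spec (CommRingCat.of K))} [Smooth U.hom] [GeometricallyIntegral U.hom]
    [Smooth V.hom] [GeometricallyIntegral V.hom] {u : (PicF.Cl (U ⊗ V ⊗ W).left)ˣ} (hu : Inv u)
    (a₀ a : Pt U) (b₀ b : Pt V) : E u a₀ b₀ * E u a b = E u a₀ b * E u a b₀ := by
  haveI : IsIntegral U.left := GeometricallyIntegral.isIntegral_of_subsingleton U.hom
  haveI : IsIntegral V.left := GeometricallyIntegral.isIntegral_of_subsingleton V.hom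
  have hc : CurveConst fun t : Pt U => E u t b₀ / E u t b := by
    intro C hC f p q
    have h := relation_curve_left hC (hu.pull (f ⊗ₘ (𝟙 V ⊗ₘ 𝟙 W))) p q b₀ b
    simp only [E_map, Category.comp_id] at h
    show E u (p ≫ f) b₀ / E u (p ≫ f) b = E u (q ≫ f) b₀ / E u (q ≫ f) b
    rw [div_eq_div_iff_mul_eq_mul, h]
    exact mul_comm _ _
  have h := const_of_curves _ hc a₀ a
  rw [div_eq_div_iff_mul_eq_mul] at h
  rw [h]
  exact mul_comm _ _

/-- The relation as an isomorphism of modules. -/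
theorem exists_unit {X : Over (Spec (CommRingCat.of K))} {L : X.left.Modules} (hL : PicF.IsInvertible L) :
    ∃ u : (PicF.Cl X.left)ˣ, Inv u ∧ u.1 = PicF.cl L :=
  ⟨(PicMul.isUnit_cl hL).unit, ⟨L, rfl, hL⟩, rfl⟩

theorem pullU_val {S T : Over (Spec (CommRingCat.of K))} (f : S ⟶ T) {L : T.left.Modules}
    {u : (PicF.Cl T.left)ˣ} (h : u.1 = PicF.cl L) :
    (pullU f u).1 = PicF.cl ((Scheme.Modules.pullback f.left).obj L) := by
  show PicF.pullCl f.left u.1 = _
  rw [h]
  rfl

theorem nonempty_iso_of_mul_eq {X : Scheme.{u}} {A B C D : X.Modules} {a b c d : (PicF.Cl X)ˣ}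
    (ha : a.1 = PicF.cl A) (hb : b.1 = PicF.cl B) (hc : c.1 = PicF.cl C) (hd : d.1 = PicF.cl D)
    (h : a * b = c * d) : Nonempty (CohB1.tensorMod A B ≅ CohB1.tensorMod C D) := by
  refine PicMul.cl_eq_iff.1 ?_
  rw [PicMul.cl_tensor, PicMul.cl_tensor, ← ha, ← hb, ← hc, ← hd, ← Units.val_mul, ← Units.val_mul, h]

end Groth.Agent.SquareNC
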