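import Mathlib.AlgebraicGeometry.AlgClosed.Basic
import Mathlib.AlgebraicGeometry.Morphisms.FiniteType
import Mathlib.CategoryTheory.Monoidal.Cartesian.Over

/-!
Rational points of schemes locally of finite type over an algebraically closed field.
-/

set_option autoImplicit false
set_option linter.style.haveILetI false
set_option linter.unusedSectionVars false
set_option backward.isDefEq.respectTransparency false
set_option backward.isDefEq.respectTransparency.types false

universe u

open CategoryTheory MonoidalCategory CartesianMonoidalCategory AlgebraicGeometry Limits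

namespace Groth.Agent.SquareNC

variable {K : Type u} [Field K] [IsAlgClosed K]

/-- Rational points. -/
abbrev Pt (U : Over (Spec (CommRingCat.of K))) := 𝟙_ (Over (Spec (CommRingCat.of K))) ⟶ U

/-- The image of a rational point. -/
noncomputable def img {U : Over (Spec (CommRingCat.of K))} (p : Pt U) : U.left :=
  p.left (IsLocalRing.closedPoint K)

theorem img_comp {U V : Over (Spec (CommRingCat.of K))} (p : Pt U) (f : U ⟶ V) :
    img (p ≫ f) = f.left (img p) := rfl

variable {U : Over (Spec (CommRingCat.of K))} [LocallyOfFiniteType U.hom]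

theorem isClosed_img (p : Pt U) : IsClosed ({img p} : Set U.left) :=
  (pointEquivClosedPoint U.hom ⟨p.left, Over.w p⟩).2

theorem pt_ext {p q : Pt U} (h : img p = img q) : p = q :=
  Over.OverMorphism.ext (ext_of_apply_closedPoint_eq U.hom (Over.w p) (Over.w q) h)

theorem exists_pt {x : U.left} (hx : IsClosed ({x} : Set U.left)) : ∃ p : Pt U, img p = x :=
  ⟨Over.homMk (pointOfClosedPoint U.hom x hx) (pointOfClosedPoint_comp U.hom x hx),
    pointOfClosedPoint_apply U.hom x hx _⟩

theorem jacobsonSpace (U : Over (Spec (CommRingCat.of K))) [LocallyOfFiniteType U.hom] :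
    JacobsonSpace ↥U.left :=
  LocallyOfFiniteType.jacobsonSpace U.hom

theorem exists_pt_mem {Z : Set U.left} (hne : Z.Nonempty) (hZ : IsLocallyClosed Z) :
    ∃ p : Pt U, img p ∈ Z := by
  haveI := jacobsonSpace U
  obtain ⟨x, hxZ, hx⟩ := nonempty_inter_closedPoints hne hZ
  obtain ⟨p, rfl⟩ := exists_pt hx
  exact ⟨p, hxZ⟩

theorem exists_pt_mem_open (O : U.left.Opens) (hne : (O : Set U.left).Nonempty) :
    ∃ p : Pt U, img p ∈ O :=
  exists_pt_mem hne O.isOpen.isLocallyClosed

theorem exists_pt_of_nonempty [Nonempty U.left] : ∃ _p : Pt U, True :=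
  let ⟨p, _⟩ := exists_pt_mem (U := U) (Z := Set.univ) Set.univ_nonempty isOpen_univ.isLocallyClosed
  ⟨p, trivial⟩

end Groth.Agent.SquareNC
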