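import Groth.Agent.SquareNC.Pts
import Groth.Agent.S15351
import Groth.Agent.S10249
import Groth.Agent.GrpSchLib.SmoothRegular
import Groth.Agent.H23.FinCondSch
import Groth.Agent.RegUFD.Basic
import Mathlib.RingTheory.KrullDimension.Polynomial
import Mathlib.RingTheory.TensorProduct.MvPolynomial
import Mathlib.RingTheory.RingHom.StandardSmooth
import Mathlib.AlgebraicGeometry.Morphisms.Etale

/-!
A function on the rational points of a smooth variety which is constant on every smooth curve mapping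
to the variety is constant.
-/

set_option autoImplicit false
set_option linter.style.haveILetI false
set_option linter.unusedSectionVars false
set_option backward.isDefEq.respectTransparency false
set_option backward.isDefEq.respectTransparency.types false

universe u

open CategoryTheory MonoidalCategory CartesianMonoidalCategory AlgebraicGeometry Limits

namespace Groth.Agent.SquareNC

variable {K : Type u} [Field K] [IsAlgClosed K]

/-- A smooth affine integral curve. -/
structure IsCurve (C : Over (Spec (CommRingCat.of K))) : Prop where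
  smooth : Smooth C.hom
  affine : IsAffine C.left
  integral : IsIntegral C.left
  dim : topologicalKrullDim ↥C.left = 1

variable {U₀ : Over (Spec (CommRingCat.of K))} {α : Sort*}

/-- The function is constant on every curve. -/
def CurveConst (c : Pt U₀ → α) : Prop :=
  ∀ C : Over (Spec (CommRingCat.of K)), IsCurve C → ∀ (f : C ⟶ U₀) (p q : Pt C), c (p ≫ f) = c (q ≫ f)

/-- The function is locally constant on schemes étale over `B`. -/
def Good (c : Pt U₀ → α) (B : Over (Spec (CommRingCat.of K))) : Prop :=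
  ∀ (U : Over (Spec (CommRingCat.of K))) (g : U ⟶ B), Etale g.left → ∀ (f : U ⟶ U₀) (x : Pt U),
    ∃ O : U.left.Opens, img x ∈ O ∧ ∀ y : Pt U, img y ∈ O → c (y ≫ f) = c (x ≫ f)

theorem isClosed_of_injective {X Y : Type*} [TopologicalSpace X] [TopologicalSpace Y] {φ : X → Y}
    (hφ : Continuous φ) (hinj : Function.Injective φ) {t : X} (h : IsClosed ({φ t} : Set Y)) :
    IsClosed ({t} : Set X) := by
  have : ({t} : Set X) = φ ⁻¹' {φ t} := Set.ext fun s => ⟨congrArg φ, fun hs => hinj hs⟩
  rw [this]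
  exact h.preimage hφ

theorem eq_of_preconnected (c : Pt U₀ → α) {U : Over (Spec (CommRingCat.of K))} [LocallyOfFiniteType U.hom]
    (f : U ⟶ U₀)
    (h : ∀ x : Pt U, ∃ O : U.left.Opens, img x ∈ O ∧ ∀ y : Pt U, img y ∈ O → c (y ≫ f) = c (x ≫ f))
    {T : Set U.left} (hT : _root_.IsPreconnected T) {x y : Pt U} (hx : img x ∈ T) (hy : img y ∈ T) :
    c (y ≫ f) = c (x ≫ f) := by
  choose O hO hc using h
  let W : Set U.left := ⋃ (p : Pt U) (_ : c (p ≫ f) = c (x ≫ f)), (O p : Set U.left)
  let W' : Set U.left := ⋃ (p : Pt U) (_ : ¬c (p ≫ f) = c (x ≫ f)), (O p : Set U.left)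
  have hW : IsOpen W := isOpen_iUnion fun p => isOpen_iUnion fun _ => (O p).2
  have hW' : IsOpen W' := isOpen_iUnion fun p => isOpen_iUnion fun _ => (O p).2
  have hcov : ∀ z : U.left, z ∈ W ∪ W' := by
    intro z
    obtain ⟨p, hp⟩ := exists_pt_mem (U := U) (Z := closure {z}) ⟨z, subset_closure rfl⟩
      isClosed_closure.isLocallyClosed
    have hz : z ∈ O p := (specializes_iff_mem_closure.2 hp).mem_open (O p).2 (hO p)
    by_cases hcp : c (p ≫ f) = c (x ≫ f)
    · exact Or.inl (Set.mem_iUnion₂.2 ⟨p, hcp, hz⟩)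
    · exact Or.inr (Set.mem_iUnion₂.2 ⟨p, hcp, hz⟩)
  by_contra hne
  obtain ⟨z, -, hzW, hzW'⟩ := hT W W' hW hW' (fun z _ => hcov z)
    ⟨img x, hx, Set.mem_iUnion₂.2 ⟨x, rfl, hO x⟩⟩ ⟨img y, hy, Set.mem_iUnion₂.2 ⟨y, hne, hO y⟩⟩
  obtain ⟨p, hp, hzp⟩ := Set.mem_iUnion₂.1 hzW
  obtain ⟨q, hq, hzq⟩ := Set.mem_iUnion₂.1 hzW'
  obtain ⟨r, hr⟩ := exists_pt_mem_open (O p ⊓ O q) ⟨z, hzp, hzq⟩
  exact hq ((hc q r hr.2).symm.trans ((hc p r hr.1).trans hp))

theorem locallyOfFiniteType_of_hom {U B : Over (Spec (CommRingCat.of K))} (g : U ⟶ B)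
    [LocallyOfFiniteType g.left] [LocallyOfFiniteType B.hom] : LocallyOfFiniteType U.hom := by
  rw [← Over.w g]; infer_instance

theorem smooth_of_hom {U B : Over (Spec (CommRingCat.of K))} (g : U ⟶ B)
    [Smooth g.left] [Smooth B.hom] : Smooth U.hom := by
  rw [← Over.w g]; infer_instance

/-- The key step: a product. -/
theorem good_prod (c : Pt U₀ → α) {B₁ B₂ : Over (Spec (CommRingCat.of K))} [Smooth B₁.hom]
    [IsSeparated B₁.hom] [Smooth B₂.hom] [IsSeparated B₂.hom]
    (h₁ : Good c B₁) (h₂ : Good c B₂) : Good c (B₁ ⊗ B₂) := by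
  intro U g hg f x
  haveI := hg
  haveI : Smooth (snd B₁ B₂).left := inferInstanceAs (Smooth (pullback.snd B₁.hom B₂.hom))
  haveI : Smooth (B₁ ⊗ B₂).hom := by
    rw [← Over.w (snd B₁ B₂)]; infer_instance
  haveI : LocallyOfFiniteType U.hom := locallyOfFiniteType_of_hom g
  -- the slice through `x`
  let b₁ : Pt B₁ := x ≫ g ≫ fst B₁ B₂
  let j₂ : B₂ ⟶ B₁ ⊗ B₂ := lift (toUnit B₂ ≫ b₁) (𝟙 B₂)
  let C : Over (Spec (CommRingCat.of K)) := Over.mk (pullback.snd g.left j₂.left ≫ B₂.hom)
  let hC : C ⟶ B₂ := Over.homMk (pullback.snd g.left j₂.left) rfl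
  let iC : C ⟶ U := Over.homMk (pullback.fst g.left j₂.left) (by
    show pullback.fst g.left j₂.left ≫ U.hom = pullback.snd g.left j₂.left ≫ B₂.hom
    rw [← Over.w g, ← Category.assoc, pullback.condition, Category.assoc, Over.w j₂])
  haveI : Etale hC.left := inferInstanceAs (Etale (pullback.snd g.left j₂.left))
  haveI : LocallyOfFiniteType C.hom := locallyOfFiniteType_of_hom hC
  have hgb : iC ≫ g ≫ snd B₁ B₂ = hC := by
    refine Over.OverMorphism.ext ?_
    show pullback.fst g.left j₂.left ≫ g.left ≫ (snd B₁ B₂).left = pullback.snd g.left j₂.left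
    rw [← Category.assoc, pullback.condition, Category.assoc, ← Over.comp_left]
    simp [j₂]
  have hx₀ : x ≫ g = (x ≫ g ≫ snd B₁ B₂) ≫ j₂ := by
    refine CartesianMonoidalCategory.hom_ext _ _ ?_ ?_
    · simp [j₂, b₁]
    · simp [j₂]
  let xC : Pt C := Over.homMk (pullback.lift x.left (x ≫ g ≫ snd B₁ B₂).left
      (congrArg CommaMorphism.left hx₀)) (by
    show pullback.lift _ _ _ ≫ pullback.snd g.left j₂.left ≫ B₂.hom = _
    rw [pullback.lift_snd_assoc]
    exact Over.w (x ≫ g ≫ snd B₁ B₂))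
  have hxC : xC ≫ iC = x := Over.OverMorphism.ext (pullback.lift_fst _ _ _)
  obtain ⟨OC, hxOC, hOC⟩ := h₂ C hC inferInstance (iC ≫ f) xC
  -- the family of slices
  let gb : U ⟶ B₂ := g ≫ snd B₁ B₂
  haveI : Smooth gb.left := inferInstanceAs (Smooth (g.left ≫ (snd B₁ B₂).left))
  let P : Over (Spec (CommRingCat.of K)) := Over.mk (pullback.snd gb.left hC.left ≫ C.hom)
  let pi : P ⟶ C := Over.homMk (pullback.snd gb.left hC.left) rfl
  let pr : P ⟶ U := Over.homMk (pullback.fst gb.left hC.left) (by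
    show pullback.fst gb.left hC.left ≫ U.hom = pullback.snd gb.left hC.left ≫ C.hom
    rw [← Over.w gb, ← Category.assoc, pullback.condition, Category.assoc, Over.w hC])
  haveI : Smooth pi.left := inferInstanceAs (Smooth (pullback.snd gb.left hC.left))
  haveI : Etale pr.left := inferInstanceAs (Etale (pullback.fst gb.left hC.left))
  haveI : LocallyOfFiniteType P.hom := locallyOfFiniteType_of_hom pi
  haveI : IsLocallyNoetherian P.left := LocallyOfFiniteType.isLocallyNoetherian P.hom
  let e : C.left ⟶ P.left := pullback.lift iC.left (𝟙 C.left) (by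
    rw [Category.id_comp, ← Over.comp_left]
    exact congrArg CommaMorphism.left hgb)
  have he : e ≫ pi.left = 𝟙 C.left := pullback.lift_snd _ _ _
  let X₀ := MoreMor.sectionComponents pi.left e
  have hX₀ : IsOpen X₀ := S15351.result pi.left e he
  have hV : IsOpen (X₀ ∩ pi.left ⁻¹' (OC : Set C.left)) := hX₀.inter (OC.2.preimage pi.left.continuous)
  have hpie : ∀ z, pi.left (e z) = z := fun z => by
    rw [← Scheme.Hom.comp_apply, he]; rfl
  have hpre : ∀ z, pr.left (e z) = iC.left z := fun z => by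
    rw [← Scheme.Hom.comp_apply]
    exact congrArg (fun φ : C.left ⟶ U.left => φ z) (pullback.lift_fst _ _ _)
  refine ⟨⟨pr.left '' (X₀ ∩ pi.left ⁻¹' (OC : Set C.left)), pr.left.isOpenMap _ hV⟩, ?_, ?_⟩
  · refine ⟨e (img xC), ⟨?_, ?_⟩, ?_⟩
    · show e (img xC) ∈ connectedComponentIn (pi.left ⁻¹' {pi.left (e (img xC))}) (e (pi.left (e (img xC))))
      rw [hpie]
      exact mem_connectedComponentIn (hpie _)
    · show pi.left (e (img xC)) ∈ OC
      rw [hpie]; exact hxOC
    · rw [hpre, ← img_comp, hxC]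
  rintro y ⟨w, hw, hwy⟩
  obtain ⟨p, hpV, hpy⟩ := exists_pt_mem (U := P)
    (Z := (X₀ ∩ pi.left ⁻¹' (OC : Set C.left)) ∩ pr.left ⁻¹' {img y}) ⟨w, hw, hwy⟩
    (hV.isLocallyClosed.inter ((isClosed_img y).preimage pr.left.continuous).isLocallyClosed)
  have hpy' : p ≫ pr = y := pt_ext ((img_comp p pr).trans hpy)
  let z : Pt C := p ≫ pi
  have hz : img z ∈ OC := hpV.2
  -- the fibre containing the point
  let b : Pt B₂ := z ≫ hC
  let j₁ : B₁ ⟶ B₁ ⊗ B₂ := lift (𝟙 B₁) (toUnit B₁ ≫ b)
  haveI : IsClosedImmersion j₁.left := by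
    haveI : IsSeparated (fst B₁ B₂).left := inferInstanceAs (IsSeparated (pullback.fst B₁.hom B₂.hom))
    haveI : IsClosedImmersion (j₁.left ≫ (fst B₁ B₂).left) := by
      rw [← Over.comp_left, lift_fst]; exact inferInstanceAs (IsClosedImmersion (𝟙 B₁.left))
    exact IsClosedImmersion.of_comp j₁.left (fst B₁ B₂).left
  have hrange : ∀ q : (B₁ ⊗ B₂).left, (snd B₁ B₂).left q = img b → q ∈ Set.range j₁.left := by
    intro q hq
    let m := pullback.fst (snd B₁ B₂).left b.left
    have hmb : m ≫ (snd B₁ B₂).left = pullback.snd (snd B₁ B₂).left b.left ≫ b.left := pullback.condition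
    have hm : (m ≫ (fst B₁ B₂).left) ≫ j₁.left = m := by
      have hu : (m ≫ (fst B₁ B₂).left) ≫ (toUnit B₁).left = pullback.snd (snd B₁ B₂).left b.left := by
        show (m ≫ (fst B₁ B₂).left) ≫ B₁.hom = _
        rw [Category.assoc, Over.w (fst B₁ B₂), ← Over.w (snd B₁ B₂), ← Category.assoc, hmb,
          Category.assoc, Over.w b]
        exact Category.comp_id _
      apply pullback.hom_ext
      · show ((m ≫ (fst B₁ B₂).left) ≫ j₁.left) ≫ (fst B₁ B₂).left = m ≫ (fst B₁ B₂).left
        rw [Category.assoc, ← Over.comp_left, lift_fst]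
        exact Category.comp_id _
      · show ((m ≫ (fst B₁ B₂).left) ≫ j₁.left) ≫ (snd B₁ B₂).left = m ≫ (snd B₁ B₂).left
        rw [Category.assoc, ← Over.comp_left, lift_snd]
        show (m ≫ (fst B₁ B₂).left) ≫ ((toUnit B₁).left ≫ b.left) = _
        exact ((Category.assoc _ _ _).symm.trans (congrArg (· ≫ b.left) hu)).trans hmb.symm
    have : q ∈ Set.range m := by
      rw [Scheme.Pullback.range_fst]
      exact ⟨IsLocalRing.closedPoint K, hq.symm⟩
    obtain ⟨r, rfl⟩ := this
    exact ⟨(m ≫ (fst B₁ B₂).left) r, congrArg (fun φ : _ ⟶ (B₁ ⊗ B₂).left => φ r) hm⟩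
  let F : Over (Spec (CommRingCat.of K)) := Over.mk (pullback.snd g.left j₁.left ≫ B₁.hom)
  let hF : F ⟶ B₁ := Over.homMk (pullback.snd g.left j₁.left) rfl
  let iF : F ⟶ U := Over.homMk (pullback.fst g.left j₁.left) (by
    show pullback.fst g.left j₁.left ≫ U.hom = pullback.snd g.left j₁.left ≫ B₁.hom
    rw [← Over.w g, ← Category.assoc, pullback.condition, Category.assoc, Over.w j₁])
  haveI : Etale hF.left := inferInstanceAs (Etale (pullback.snd g.left j₁.left))
  haveI : IsClosedImmersion iF.left := inferInstanceAs (IsClosedImmersion (pullback.fst g.left j₁.left))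
  haveI : LocallyOfFiniteType F.hom := locallyOfFiniteType_of_hom hF
  let T' := connectedComponentIn (pi.left ⁻¹' {img z}) (e (img z))
  have hT'p : img p ∈ T' := hpV.1
  have hT'e : e (img z) ∈ T' := mem_connectedComponentIn (hpie _)
  have hsub : pr.left '' T' ⊆ Set.range iF.left := by
    rintro _ ⟨q, hq, rfl⟩
    have hq' : pi.left q = img z := connectedComponentIn_subset (pi.left ⁻¹' {img z}) (e (img z)) hq
    have h1 : gb.left (pr.left q) = hC.left (pi.left q) := by
      rw [← Scheme.Hom.comp_apply, ← Scheme.Hom.comp_apply]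
      exact congrArg (fun φ : P.left ⟶ B₂.left => φ q) pullback.condition
    show pr.left q ∈ Set.range (pullback.fst g.left j₁.left)
    rw [Scheme.Pullback.range_fst]
    refine hrange _ ?_
    show (snd B₁ B₂).left (g.left (pr.left q)) = img b
    rw [hq'] at h1
    exact h1
  have hTpre : _root_.IsPreconnected (iF.left ⁻¹' (pr.left '' T')) := by
    refine iF.left.isClosedEmbedding.isInducing.isPreconnected_image.1 ?_
    rw [Set.image_preimage_eq_of_subset hsub]
    exact isPreconnected_connectedComponentIn.image _ pr.left.continuous.continuousOn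
  have hlift : ∀ q : Pt U, img q ∈ pr.left '' T' →
      ∃ q' : Pt F, q' ≫ iF = q ∧ img q' ∈ iF.left ⁻¹' (pr.left '' T') := by
    intro q hq
    obtain ⟨w', hw'⟩ := hsub hq
    have hcl : IsClosed ({w'} : Set F.left) := by
      have : ({w'} : Set F.left) = iF.left ⁻¹' {img q} := by
        ext t
        simp only [Set.mem_singleton_iff, Set.mem_preimage, ← hw']
        exact ⟨fun h => by rw [h], fun h => iF.left.isClosedEmbedding.injective h⟩
      rw [this]
      exact (isClosed_img q).preimage iF.left.continuous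
    obtain ⟨q', hq'⟩ := exists_pt hcl
    refine ⟨q', pt_ext ?_, ?_⟩
    · rw [img_comp, hq', hw']
    · rw [Set.mem_preimage, hq', hw']; exact hq
  obtain ⟨y', hy', hy'T⟩ := hlift y ⟨img p, hT'p, hpy⟩
  obtain ⟨z', hz', hz'T⟩ := hlift (z ≫ iC) ⟨e (img z), hT'e, (hpre (img z)).trans (img_comp z iC).symm⟩
  have hloc := fun q : Pt F => h₁ F hF inferInstance (iF ≫ f) q
  have h3 := eq_of_preconnected c (iF ≫ f) hloc hTpre hz'T hy'T
  rw [← Category.assoc, ← Category.assoc, hy', hz'] at h3
  rw [h3, Category.assoc, hOC z hz, ← Category.assoc, hxC]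

theorem good_iso (c : Pt U₀ → α) {B B' : Over (Spec (CommRingCat.of K))} (e : B ≅ B') (h : Good c B) :
    Good c B' := by
  intro U g hg f x
  haveI := hg
  haveI : IsIso e.inv.left := inferInstanceAs (IsIso ((Over.forget _).map e.inv))
  exact h U (g ≫ e.inv) (inferInstanceAs (Etale (g.left ≫ e.inv.left))) f x

/-- Affine space. -/
noncomputable abbrev Aff (K : Type u) [Field K] (σ : Type) : Over (Spec (CommRingCat.of K)) :=
  Over.mk (Spec.map (CommRingCat.ofHom (algebraMap K (MvPolynomial σ K))))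

instance (σ : Type) : IsSeparated (Aff K σ).hom := inferInstanceAs (IsSeparated (Spec.map _))

instance (σ : Type) [Finite σ] : Smooth (Aff K σ).hom := by
  show Smooth (Spec.map _)
  rw [HasRingHomProperty.Spec_iff (P := @Smooth), CommRingCat.hom_ofHom]
  exact RingHom.smooth_algebraMap.2 ({} : Algebra.Smooth K (MvPolynomial σ K))

theorem good_zero (c : Pt U₀ → α) : Good c (Aff K (Fin 0)) := by
  intro U g hg f x
  haveI := hg
  haveI : LocallyOfFiniteType U.hom := locallyOfFiniteType_of_hom g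
  haveI : IsIso (Aff K (Fin 0)).hom := by
    show IsIso (Spec.map (CommRingCat.ofHom (algebraMap K (MvPolynomial (Fin 0) K))))
    haveI : IsIso (CommRingCat.ofHom (algebraMap K (MvPolynomial (Fin 0) K))) :=
      (ConcreteCategory.isIso_iff_bijective _).2 (MvPolynomial.isEmptyAlgEquiv K (Fin 0)).symm.bijective
    infer_instance
  haveI : Etale U.hom := by rw [← Over.w g]; infer_instance
  haveI : LocallyQuasiFinite U.hom := Groth.Agent.AlgSpLib.locallyQuasiFinite_of_formallyUnramified U.hom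
  haveI hd : DiscreteTopology ↥U.left := by
    have h1 := U.hom.isDiscrete_preimage_singleton (IsLocalRing.closedPoint K)
    exact isDiscrete_univ_iff.1 (h1.mono fun x _ => Subsingleton.elim (α := PrimeSpectrum K) _ _)
  refine ⟨⟨{img x}, isOpen_discrete _⟩, rfl, fun y hy => ?_⟩
  rw [pt_ext (show img y = img x from hy)]

theorem dim_aff_one : topologicalKrullDim ↥(Aff K (Fin 1)).left = 1 := by
  show topologicalKrullDim (PrimeSpectrum (MvPolynomial (Fin 1) K)) = 1
  rw [PrimeSpectrum.topologicalKrullDim_eq_ringKrullDim, MvPolynomial.ringKrullDim_of_isNoetherianRing,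
    ringKrullDim_eq_zero_of_field]
  simp

theorem good_one (c : Pt U₀ → α) (hc : CurveConst c) : Good c (Aff K (Fin 1)) := by
  intro U g hg f x
  haveI := hg
  haveI : Smooth U.hom := smooth_of_hom g
  haveI : IsLocallyNoetherian U.left := LocallyOfFiniteType.isLocallyNoetherian U.hom
  haveI := GrpSchLib.isRegularLocalRing_stalk_of_smooth U.hom (img x)
  haveI : IsDomain (U.left.presheaf.stalk (img x)) := (RegUFD.ufd (U.left.presheaf.stalk (img x))).1
  obtain ⟨W, hxW, hW⟩ := H23.FinCondSch.exists_integral_nhd (img x)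
  haveI := hW
  obtain ⟨_, ⟨(V : U.left.Opens), hV, rfl⟩, hxV, hVW⟩ :=
    U.left.isBasis_affineOpens.exists_subset_of_mem_open hxW W.2
  haveI : IsAffine (V : Scheme.{u}) := hV
  haveI : Nonempty (V : Scheme.{u}) := ⟨⟨_, hxV⟩⟩
  haveI : IsIntegral (V : Scheme.{u}) := isIntegral_of_isOpenImmersion (U.left.homOfLE hVW)
  let C : Over (Spec (CommRingCat.of K)) := Over.mk (V.ι ≫ U.hom)
  let i : C ⟶ U := Over.homMk V.ι rfl
  have hdim : topologicalKrullDim ↥C.left = 1 := by
    refine le_antisymm ((S10249.dim_le (V.ι ≫ g.left)).trans_eq dim_aff_one) ?_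
    by_contra hlt
    have h0 : ∀ a b : ↥(V : Scheme.{u}), a ⤳ b → a = b := by
      intro a b hab
      by_contra hne
      apply hlt
      rw [Groth.Agent.AlgSpPts.topologicalKrullDim_eq_krullDim]
      letI : PartialOrder ↥C.left := specializationOrder _
      exact Order.one_le_krullDim_iff.2 ⟨b, a, lt_of_le_of_ne hab (Ne.symm hne)⟩
    have hsub : ∀ a : ↥(V : Scheme.{u}), a = genericPoint (V : Scheme.{u}) :=
      fun a => (h0 _ _ (genericPoint_specializes a)).symm
    let q := (V.ι ≫ g.left) (genericPoint (V : Scheme.{u}))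
    have hopen : IsOpen ({q} : Set (Aff K (Fin 1)).left) := by
      have h := (V.ι ≫ g.left).isOpenMap _ isOpen_univ
      rwa [Set.image_univ, (Set.range_eq_singleton (fun a => congrArg (V.ι ≫ g.left) (hsub a)) :
        Set.range (V.ι ≫ g.left) = {q})] at h
    haveI := jacobsonSpace (Aff K (Fin 1))
    have hclosed : IsClosed ({q} : Set (Aff K (Fin 1)).left) :=
      isClosed_singleton_of_isLocallyClosed_singleton hopen.isLocallyClosed
    haveI : IrreducibleSpace (Aff K (Fin 1)).left :=
      inferInstanceAs (IrreducibleSpace (PrimeSpectrum (MvPolynomial (Fin 1) K)))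
    have huniv : ({q} : Set (Aff K (Fin 1)).left) = Set.univ :=
      hclosed.closure_eq.symm.trans (hopen.dense ⟨q, rfl⟩).closure_eq
    haveI : Subsingleton (Aff K (Fin 1)).left :=
      ⟨fun a b => (show a ∈ ({q} : Set _) from huniv ▸ trivial).trans
        (show b ∈ ({q} : Set _) from huniv ▸ trivial).symm⟩
    have h1 := dim_aff_one (K := K)
    rw [Groth.Agent.AlgSpPts.topologicalKrullDim_eq_krullDim] at h1
    letI : PartialOrder ↥(Aff K (Fin 1)).left := specializationOrder _
    obtain ⟨a, b, hab⟩ := Order.one_le_krullDim_iff.1 h1.ge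
    exact hab.ne (Subsingleton.elim a b)
  haveI : Smooth C.hom := inferInstanceAs (Smooth (V.ι ≫ U.hom))
  refine ⟨V, hxV, fun y hy => ?_⟩
  obtain ⟨x', hx'⟩ := exists_pt (U := C) (x := ⟨img x, hxV⟩)
    (isClosed_of_injective V.ι.continuous V.ι.isOpenEmbedding.injective (isClosed_img x))
  obtain ⟨y', hy'⟩ := exists_pt (U := C) (x := ⟨img y, hy⟩)
    (isClosed_of_injective V.ι.continuous V.ι.isOpenEmbedding.injective (isClosed_img y))
  have h := hc C ⟨inferInstance, hV, inferInstanceAs (IsIntegral (V : Scheme.{u})), hdim⟩ (i ≫ f) y' x'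
  rwa [← Category.assoc, ← Category.assoc,
    show y' ≫ i = y from pt_ext (by rw [img_comp, hy']; rfl),
    show x' ≫ i = x from pt_ext (by rw [img_comp, hx']; rfl)] at h

open TensorProduct in
/-- Affine space is a product. -/
noncomputable def affSum (σ τ : Type) : Aff K σ ⊗ Aff K τ ≅ Aff K (σ ⊕ τ) :=
  Over.isoMk (pullbackSpecIso K (MvPolynomial σ K) (MvPolynomial τ K) ≪≫
    Scheme.Spec.mapIso (MvPolynomial.tensorEquivSum K σ τ K).symm.toRingEquiv.toCommRingCatIso.op) (by
    show (pullbackSpecIso K (MvPolynomial σ K) (MvPolynomial τ K)).hom ≫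
        Spec.map (CommRingCat.ofHom (MvPolynomial.tensorEquivSum K σ τ K).symm.toRingEquiv.toRingHom) ≫
        Spec.map (CommRingCat.ofHom (algebraMap K (MvPolynomial (σ ⊕ τ) K))) =
      pullback.fst _ _ ≫ Spec.map (CommRingCat.ofHom (algebraMap K (MvPolynomial σ K)))
    rw [← pullbackSpecIso_hom_fst K (MvPolynomial σ K) (MvPolynomial τ K), Category.assoc,
      ← Spec.map_comp, ← Spec.map_comp]
    congr 2
    ext r
    simp [AlgEquiv.symm_apply_eq])

/-- Affine space reindexed. -/
noncomputable def affEquiv {σ τ : Type} (e : σ ≃ τ) : Aff K σ ≅ Aff K τ :=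
  Over.isoMk (Scheme.Spec.mapIso (MvPolynomial.renameEquiv K e).symm.toRingEquiv.toCommRingCatIso.op) (by
    show Spec.map (CommRingCat.ofHom (MvPolynomial.renameEquiv K e).symm.toRingEquiv.toRingHom) ≫
        Spec.map (CommRingCat.ofHom (algebraMap K (MvPolynomial τ K))) =
      Spec.map (CommRingCat.ofHom (algebraMap K (MvPolynomial σ K)))
    rw [← Spec.map_comp]
    congr 2
    ext r
    simp)

theorem good_aff (c : Pt U₀ → α) (hc : CurveConst c) : ∀ n, Good c (Aff K (Fin n))
  | 0 => good_zero c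
  | n + 1 => good_iso c (affEquiv finSumFinEquiv)
      (good_iso c (affSum (Fin n) (Fin 1)) (good_prod c (good_aff c hc n) (good_one c hc)))

theorem locConst (c : Pt U₀ → α) (hc : CurveConst c) [Smooth U₀.hom] (x : Pt U₀) :
    ∃ O : U₀.left.Opens, img x ∈ O ∧ ∀ y : Pt U₀, img y ∈ O → c (y ≫ 𝟙 U₀) = c (x ≫ 𝟙 U₀) := by
  obtain ⟨U', hU', V, hV, hxV, hVU, hstd⟩ := Smooth.exists_isStandardSmooth U₀.hom (img x)
  obtain rfl : U' = ⊤ := top_unique fun z _ => (Subsingleton.elim (α := PrimeSpectrum K) (U₀.hom (img x)) z) ▸ hVU hxV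
  have hstd' : ((Scheme.ΓSpecIso (CommRingCat.of K)).inv ≫ U₀.hom.appLE ⊤ V hVU).hom.IsStandardSmooth := by
    rw [CommRingCat.hom_comp]
    exact RingHom.isStandardSmooth_respectsIso.2 _ (Scheme.ΓSpecIso (CommRingCat.of K)).symm.commRingCatIsoToRingEquiv hstd
  obtain ⟨n, φ, hφC, hφ⟩ := hstd'.exists_etale_mvPolynomial
  haveI : IsAffine (V : Scheme.{u}) := hV
  let C : Over (Spec (CommRingCat.of K)) := Over.mk (V.ι ≫ U₀.hom)
  let i : C ⟶ U₀ := Over.homMk V.ι rfl
  haveI : Smooth C.hom := inferInstanceAs (Smooth (V.ι ≫ U₀.hom))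
  haveI : Etale (Spec.map (CommRingCat.ofHom φ)) := (HasRingHomProperty.Spec_iff (P := @Etale)).2 hφ
  let g : C ⟶ Aff K (Fin n) := Over.homMk (hV.isoSpec.hom ≫ Spec.map (CommRingCat.ofHom φ)) (by
    show (hV.isoSpec.hom ≫ Spec.map (CommRingCat.ofHom φ)) ≫
      Spec.map (CommRingCat.ofHom (algebraMap K (MvPolynomial (Fin n) K))) = V.ι ≫ U₀.hom
    have h1 : CommRingCat.ofHom (algebraMap K (MvPolynomial (Fin n) K)) ≫ CommRingCat.ofHom φ =
        (Scheme.ΓSpecIso (CommRingCat.of K)).inv ≫ U₀.hom.appLE ⊤ V hVU := CommRingCat.hom_ext hφC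
    rw [Category.assoc, ← Spec.map_comp, h1, ← hV.isoSpec_hom_fromSpec]
    have h2 := (isAffineOpen_top (Spec (CommRingCat.of K))).SpecMap_appLE_fromSpec U₀.hom hV hVU
    rw [Category.assoc, ← h2, Spec.map_comp, IsAffineOpen.fromSpec_top, ← Scheme.isoSpec_Spec_inv])
  haveI : Etale g.left := inferInstanceAs (Etale (hV.isoSpec.hom ≫ Spec.map (CommRingCat.ofHom φ)))
  obtain ⟨x', hx'⟩ := exists_pt (U := C) (x := ⟨img x, hxV⟩)
    (isClosed_of_injective V.ι.continuous V.ι.isOpenEmbedding.injective (isClosed_img x))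
  obtain ⟨O, hO, hOc⟩ := good_aff c hc n C g inferInstance i x'
  refine ⟨V.ι ''ᵁ O, ⟨_, hO, show V.ι (img x') = img x by rw [hx']; rfl⟩, ?_⟩
  rintro y ⟨w, hw, hwy⟩
  obtain ⟨y', hy'⟩ := exists_pt (U := C) (x := w)
    (isClosed_of_injective V.ι.continuous V.ι.isOpenEmbedding.injective (by have h := isClosed_img y; rw [← hwy] at h; exact h))
  have h := hOc y' (hy' ▸ hw)
  rwa [show y' ≫ i = y from pt_ext (by rw [img_comp, hy', ← hwy]; rfl),
    show x' ≫ i = x from pt_ext (by rw [img_comp, hx']; rfl), ← Category.comp_id y, ← Category.comp_id x] at h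

/-- A function constant on curves is constant on the points of a connected smooth scheme. -/
theorem const_of_curves (c : Pt U₀ → α) (hc : CurveConst c) [Smooth U₀.hom] [PreconnectedSpace U₀.left]
    (x y : Pt U₀) : c x = c y := by
  have h := eq_of_preconnected c (𝟙 U₀) (locConst c hc) (T := Set.univ) isPreconnected_univ
    (x := y) (y := x) trivial trivial
  simpa using h

end Groth.Agent.SquareNC
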